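import Groth.Agent.CalgB.DepthLite
import Mathlib.RingTheory.FiniteLength
import Mathlib.Algebra.Homology.ShortComplex.HomologicalComplex
import Mathlib.Algebra.Category.ModuleCat.Abelian

/-!
# Acyclicity for cochain complexes of free modules with cohomology of finite length
-/

set_option autoImplicit false

universe u

open CategoryTheory CategoryTheory.Limits IsLocalRing

namespace K539.Acyc

open Groth.Agent.CalgB.DepthLite

/-- the opcycles short exact sequence for a cochain complex exact in degree `j`. -/
lemma opcycles_step {R : Type u} [CommRing R] [IsLocalRing R]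
    (C : CochainComplex (ModuleCat.{u} R) ℕ) (j n : ℕ) (hex : IsZero (C.homology j))
    (h1 : EV (kk R) (C.opcycles j) (n + 1)) (h2 : EV (kk R) (C.X (j + 1)) n) :
    EV (kk R) (C.opcycles (j + 1)) n := by
  let S : ShortComplex (ModuleCat.{u} R) :=
    ShortComplex.mk (C.fromOpcycles j (j + 1)) (C.pOpcycles (j + 1)) (by
      rw [← cancel_epi (C.pOpcycles j), C.p_fromOpcycles_assoc, C.d_pOpcycles, comp_zero])
  have hnext : (ComplexShape.up ℕ).next j = j + 1 := CochainComplex.next ℕ j
  have hprev : (ComplexShape.up ℕ).prev (j + 1) = j := CochainComplex.prev_nat_succ j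
  have hmono : Mono (C.fromOpcycles j (j + 1)) := by
    refine Preadditive.mono_of_cancel_zero _ (fun {Z} g hg => ?_)
    have hk := C.homologyIsKernel j (j + 1) hnext
    obtain ⟨l, hl⟩ : ∃ l : Z ⟶ C.homology j, l ≫ C.homologyι j = g :=
      ⟨_, (KernelFork.IsLimit.lift' hk g hg).2⟩
    rw [← hl, hex.eq_of_tgt l 0, zero_comp]
  have hS : S.ShortExact :=
    { exact := by
        refine ShortComplex.exact_of_g_is_cokernel _ ?_
        refine CokernelCofork.IsColimit.ofπ _ _
          (fun {Z} g hg => C.descOpcycles g j hprev (by
            have : C.pOpcycles j ≫ C.fromOpcycles j (j + 1) ≫ g = 0 := by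
              rw [show C.fromOpcycles j (j + 1) ≫ g = 0 from hg, comp_zero]
            rwa [C.p_fromOpcycles_assoc] at this))
          (fun {Z} g hg => by simp [S])
          (fun {Z} g hg m hm => by
            rw [← cancel_epi (C.pOpcycles (j + 1))]
            simpa [S] using hm)
      mono_f := hmono
      epi_g := inferInstanceAs (Epi (C.pOpcycles (j + 1))) }
  exact EV.right hS h1 h2

/-- A module of finite length without nonzero socle elements is zero. -/
theorem subsingleton_of_EV {R : Type u} [CommRing R] [IsLocalRing R] {M : Type u} [AddCommGroup M]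
    [Module R M] (hfl : IsFiniteLength R M) (h : EV (kk R) (ModuleCat.of R M) 1) :
    Subsingleton M := by
  by_contra hns
  rw [not_subsingleton_iff_nontrivial] at hns
  have hart : IsArtinian R M := (isFiniteLength_iff_isNoetherian_isArtinian.1 hfl).2
  obtain ⟨S, hS⟩ := IsAtomic.exists_atom (Submodule R M)
  have hS' : IsSimpleModule R S := isSimpleModule_iff_isAtom.2 hS
  obtain ⟨x, hx, hx0⟩ := Submodule.exists_mem_ne_zero_of_ne_bot hS.1
  have hann : Module.annihilator R S = maximalIdeal R :=
    IsLocalRing.eq_maximalIdeal IsSimpleModule.annihilator_isMaximal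
  refine hx0 ((EV_one_iff.1 h) x fun a ha => ?_)
  rw [← hann, Module.mem_annihilator] at ha
  have := ha ⟨x, hx⟩
  exact congrArg Subtype.val this

theorem EV_free {R : Type u} [CommRing R] [IsLocalRing R] (M : Type u) [AddCommGroup M] [Module R M]
    [Module.Free R M] [Module.Finite R M] {n : ℕ} (h : EV (kk R) (ModuleCat.of R R) n) :
    EV (kk R) (ModuleCat.of R M) n := by
  have e : (Fin (Module.finrank R M) → R) ≃ₗ[R] M := (Module.finBasis R M).equivFun.symm
  exact (h.pi _).equiv e

/-- The acyclicity lemma for free complexes with finite length cohomology. -/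
theorem isZero_homology {R : Type u} [CommRing R] [IsLocalRing R]
    (g : ℕ) (hg : EV (kk R) (ModuleCat.of R R) g) (K : CochainComplex (ModuleCat.{u} R) ℕ)
    (hfree : ∀ i, Module.Free R (K.X i) ∧ Module.Finite R (K.X i))
    (hfl : ∀ i, IsFiniteLength R (K.homology i)) (i : ℕ) (hi : i < g) :
    IsZero (K.homology i) := by
  have hX : ∀ i, EV (kk R) (K.X i) g := by
    intro i
    obtain ⟨h1, h2⟩ := hfree i
    exact EV_free (K.X i) hg
  have hprev0 : (ComplexShape.up ℕ).prev 0 = 0 := CochainComplex.prev_nat_zero
  -- the opcycles
  have key : ∀ i : ℕ, i < g → (∀ j < i, IsZero (K.homology j)) → EV (kk R) (K.opcycles i) (g - i) := by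
    intro i
    induction i with
    | zero =>
      intro _ _
      have hd : K.d ((ComplexShape.up ℕ).prev 0) 0 = 0 := by
        apply K.shape
        rw [hprev0]
        simp
      have hiso : IsIso (K.pOpcycles 0) := K.isIso_pOpcycles _ 0 rfl hd
      exact (hX 0).iso (asIso (K.pOpcycles 0))
    | succ i ih =>
      intro hig hz
      have h1 := ih (by omega) fun j hj => hz j (by omega)
      refine opcycles_step K i (g - (i + 1)) (hz i (by omega)) ?_ ((hX (i + 1)).mono (by omega))
      have : g - (i + 1) + 1 = g - i := by omega
      rwa [this]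
  induction i using Nat.strong_induction_on with
  | _ i ih =>
    have h1 := key i hi fun j hj => ih j hj (by omega)
    have h2 : EV (kk R) (K.homology i) 1 :=
      EV.left_one' (f := (K.homologyι i).hom)
        ((ModuleCat.mono_iff_injective _).mp inferInstance) (h1.mono (by omega))
    have := subsingleton_of_EV (hfl i) h2
    exact ModuleCat.isZero_of_subsingleton _

end K539.Acyc
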