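import Groth.Agent.LocAlg.K539.MonoPS
import Groth.Agent.LocAlg.K539.QRegLen
import Mathlib.Data.Fintype.BigOperators
import Mathlib.RingTheory.Regular.RegularSequence

/-!
# The ring `k[[x, y, t]]/(x^2 - y^n)`
-/

set_option autoImplicit false

universe u

open MvPowerSeries Finset

namespace K539.DoublePt

open K539.MonoPS

variable (k : Type u) [Field k]

/-- A finite set of functions as a set of exponents. -/
noncomputable def expo (T : Finset (Fin 3 → ℕ)) : Finset (Fin 3 →₀ ℕ) :=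
  T.map Finsupp.equivFunOnFinite.symm.toEmbedding

theorem mem_expo (T : Finset (Fin 3 → ℕ)) (m : Fin 3 →₀ ℕ) : m ∈ expo T ↔ (fun i => m i) ∈ T := by
  unfold expo
  rw [Finset.mem_map_equiv]
  rfl

theorem card_expo (T : Finset (Fin 3 → ℕ)) : (expo T).card = T.card := Finset.card_map _

/-- The box. -/
def T16 : Finset (Fin 3 → ℕ) := Fintype.piFinset ![Finset.range 2, Finset.range 2, Finset.range 4]

theorem mem_T16 (v : Fin 3 → ℕ) : v ∈ T16 ↔ v 0 < 2 ∧ v 1 < 2 ∧ v 2 < 4 := by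
  unfold T16
  rw [Fintype.mem_piFinset]
  constructor
  · intro h
    exact ⟨Finset.mem_range.1 (h 0), Finset.mem_range.1 (h 1), Finset.mem_range.1 (h 2)⟩
  · rintro ⟨h0, h1, h2⟩ i
    fin_cases i
    · exact Finset.mem_range.2 h0
    · exact Finset.mem_range.2 h1
    · exact Finset.mem_range.2 h2

theorem card_T16 : T16.card = 16 := by
  unfold T16
  rw [Fintype.card_piFinset, Fin.prod_univ_three]
  rfl

/-- The seven exponents. -/
def T7 : Finset (Fin 3 → ℕ) :=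
  T16.filter fun v => ¬ (1 ≤ v 0 ∧ 1 ≤ v 1) ∧ ¬ (1 ≤ v 0 ∧ 1 ≤ v 2) ∧ ¬ (1 ≤ v 1 ∧ 2 ≤ v 2)

theorem mem_T7 (v : Fin 3 → ℕ) : v ∈ T7 ↔ (v 0 < 2 ∧ v 1 < 2 ∧ v 2 < 4) ∧
    ¬ (1 ≤ v 0 ∧ 1 ≤ v 1) ∧ ¬ (1 ≤ v 0 ∧ 1 ≤ v 2) ∧ ¬ (1 ≤ v 1 ∧ 2 ≤ v 2) := by
  unfold T7
  rw [Finset.mem_filter, mem_T16]

theorem card_T7 : T7.card = 7 := by
  decide

theorem lower_T16 : IsLowerSet (expo T16 : Set (Fin 3 →₀ ℕ)) := by
  intro a b hba ha
  rw [Finset.mem_coe, mem_expo, mem_T16] at ha ⊢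
  have h0 := hba 0
  have h1 := hba 1
  have h2 := hba 2
  beta_reduce at ha ⊢
  omega

theorem lower_T7 : IsLowerSet (expo T7 : Set (Fin 3 →₀ ℕ)) := by
  intro a b hba ha
  rw [Finset.mem_coe, mem_expo, mem_T7] at ha ⊢
  have h0 := hba 0
  have h1 := hba 1
  have h2 := hba 2
  beta_reduce at ha ⊢
  omega

theorem single_le (i : Fin 3) (a : ℕ) (m : Fin 3 →₀ ℕ) : Finsupp.single i a ≤ m ↔ a ≤ m i :=
  Finsupp.single_le_iff

theorem le_iff3 (a m : Fin 3 →₀ ℕ) : a ≤ m ↔ a 0 ≤ m 0 ∧ a 1 ≤ m 1 ∧ a 2 ≤ m 2 := by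
  constructor
  · intro h
    exact ⟨h 0, h 1, h 2⟩
  · rintro ⟨h0, h1, h2⟩ i
    fin_cases i
    · exact h0
    · exact h1
    · exact h2

theorem ideal16 : monoIdeal k (expo T16 : Set (Fin 3 →₀ ℕ)) lower_T16 =
    Ideal.span {(X 0 ^ 2 : MvPowerSeries (Fin 3) k), X 1 ^ 2, X 2 ^ 4} := by
  rw [monoIdeal_eq_span (![Finsupp.single 0 2, Finsupp.single 1 2, Finsupp.single 2 4] :
    Fin 3 → (Fin 3 →₀ ℕ))]
  · congr 1
    ext f
    simp only [Set.mem_range, Fin.exists_fin_succ, Fin.exists_fin_zero, Set.mem_insert_iff,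
      Set.mem_singleton_iff, X_pow_eq]
    simp [eq_comm]
  · intro m
    rw [Finset.mem_coe, mem_expo, mem_T16]
    simp only [Fin.exists_fin_succ, Fin.exists_fin_zero]
    simp [single_le]
    omega

theorem ideal7 : monoIdeal k (expo T7 : Set (Fin 3 →₀ ℕ)) lower_T7 =
    Ideal.span {(X 0 ^ 2 : MvPowerSeries (Fin 3) k), X 0 * X 1, X 1 ^ 2, X 0 * X 2,
      X 1 * X 2 ^ 2, X 2 ^ 4} := by
  rw [monoIdeal_eq_span (![Finsupp.single 0 2, Finsupp.single 0 1 + Finsupp.single 1 1,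
    Finsupp.single 1 2, Finsupp.single 0 1 + Finsupp.single 2 1,
    Finsupp.single 1 1 + Finsupp.single 2 2, Finsupp.single 2 4] : Fin 6 → (Fin 3 →₀ ℕ))]
  · congr 1
    ext f
    have e1 : (X 0 * X 1 : MvPowerSeries (Fin 3) k) =
        monomial (Finsupp.single 0 1 + Finsupp.single 1 1) 1 := by
      rw [X_def, X_def, monomial_mul_monomial, one_mul]
    have e2 : (X 0 * X 2 : MvPowerSeries (Fin 3) k) =
        monomial (Finsupp.single 0 1 + Finsupp.single 2 1) 1 := by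
      rw [X_def, X_def, monomial_mul_monomial, one_mul]
    have e3 : (X 1 * X 2 ^ 2 : MvPowerSeries (Fin 3) k) =
        monomial (Finsupp.single 1 1 + Finsupp.single 2 2) 1 := by
      rw [X_pow_eq, X_def, monomial_mul_monomial, one_mul]
    rw [e1, e2, e3]
    simp only [Set.mem_range, Fin.exists_fin_succ, Fin.exists_fin_zero, Set.mem_insert_iff,
      Set.mem_singleton_iff, X_pow_eq]
    simp [eq_comm]
  · intro m
    rw [Finset.mem_coe, mem_expo, mem_T7]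
    simp only [Fin.exists_fin_succ, Fin.exists_fin_zero]
    simp [single_le, le_iff3]
    omega

/-- The infinite lower set of exponents not divisible by `x²` or `y²`. -/
def L2 : Set (Fin 3 →₀ ℕ) := {m | m 0 < 2 ∧ m 1 < 2}

theorem lower_L2 : IsLowerSet L2 := by
  intro a b hba ha
  have h0 := hba 0
  have h1 := hba 1
  exact ⟨lt_of_le_of_lt h0 ha.1, lt_of_le_of_lt h1 ha.2⟩

theorem idealL2 : monoIdeal k L2 lower_L2 =
    Ideal.span {(X 0 ^ 2 : MvPowerSeries (Fin 3) k), X 1 ^ 2} := by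
  rw [monoIdeal_eq_span (![Finsupp.single 0 2, Finsupp.single 1 2] : Fin 2 → (Fin 3 →₀ ℕ))]
  · congr 1
    ext f
    simp only [Set.mem_range, Fin.exists_fin_succ, Fin.exists_fin_zero, Set.mem_insert_iff,
      Set.mem_singleton_iff, X_pow_eq]
    simp [eq_comm]
  · intro m
    simp only [Fin.exists_fin_succ, Fin.exists_fin_zero]
    simp [single_le, L2]
    omega

/-- `t⁴` is regular modulo `(x², y²)`. -/
theorem regular_t (a : MvPowerSeries (Fin 3) k)
    (h : X 2 ^ 4 * a ∈ Ideal.span {(X 0 ^ 2 : MvPowerSeries (Fin 3) k), X 1 ^ 2}) :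
    a ∈ Ideal.span {(X 0 ^ 2 : MvPowerSeries (Fin 3) k), X 1 ^ 2} := by
  rw [← idealL2] at h ⊢
  intro m hm
  have h1 := h (Finsupp.single 2 4 + m) (by
    refine ⟨?_, ?_⟩
    · have := hm.1
      simpa using this
    · have := hm.2
      simpa using this)
  rw [X_pow_eq, coeff_add_monomial_mul, one_mul] at h1
  exact h1

/-- `y` divides `b` if it divides `x² b`. -/
theorem dvd_of_dvd {b : MvPowerSeries (Fin 3) k} (h : X 1 ∣ X 0 ^ 2 * b) : X 1 ∣ b := by
  rw [X_dvd_iff] at h ⊢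
  intro m hm
  have h1 := h (Finsupp.single 0 2 + m) (by simpa using hm)
  rw [X_pow_eq, coeff_add_monomial_mul, one_mul] at h1
  exact h1

/-- `y` is regular modulo `x² - yⁿ`. -/
theorem regular_y (n : ℕ) (hn : 0 < n) (a : MvPowerSeries (Fin 3) k)
    (h : X 1 * a ∈ Ideal.span {(X 0 ^ 2 - X 1 ^ n : MvPowerSeries (Fin 3) k)}) :
    a ∈ Ideal.span {(X 0 ^ 2 - X 1 ^ n : MvPowerSeries (Fin 3) k)} := by
  rw [Ideal.mem_span_singleton] at h ⊢
  obtain ⟨b, hb⟩ := h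
  have h1 : X 1 ∣ X 0 ^ 2 * b := by
    obtain ⟨n, rfl⟩ : ∃ j, n = j + 1 := ⟨n - 1, by omega⟩
    exact ⟨a + X 1 ^ n * b, by linear_combination -hb⟩
  obtain ⟨c, rfl⟩ := dvd_of_dvd k h1
  refine ⟨c, ?_⟩
  have hX : (X 1 : MvPowerSeries (Fin 3) k) ≠ 0 := by
    intro h0
    have := congrArg (coeff (Finsupp.single 1 1)) h0
    rw [X_def, coeff_monomial_same, map_zero] at this
    exact one_ne_zero this
  apply mul_left_cancel₀ hX
  linear_combination hb

end K539.DoublePt
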