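import Groth.Agent.LocAlg.K539.DoublePt
import Groth.Agent.LocAlg.K539.IntDep
import Groth.Agent.CycA.KoszulAsym

/-!
# The ring `k[[x, y, t]]/(x^2 - y^n)`: regular sequence, integral dependence
-/

set_option autoImplicit false

universe u

open MvPowerSeries Finset Filter Topology

namespace K539.DoublePt

open K539.MonoPS K539.IntDep RingTheory.Sequence Pointwise

/-- Lengths of quotients of a quotient ring. -/
theorem length_quot_map {S : Type u} [CommRing S] (K I : Ideal S) (h : K ≤ I) :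
    Module.length (S ⧸ K) ((S ⧸ K) ⧸ I.map (Ideal.Quotient.mk K)) = Module.length S (S ⧸ I) := by
  have h1 : Module.length S ((S ⧸ K) ⧸ I.map (Ideal.Quotient.mk K)) =
      Module.length (S ⧸ K) ((S ⧸ K) ⧸ I.map (Ideal.Quotient.mk K)) :=
    Module.length_eq_of_surjective (S := S) (R := S ⧸ K) Ideal.Quotient.mk_surjective
  rw [← h1]
  let φ : S →ₗ[S] ((S ⧸ K) ⧸ I.map (Ideal.Quotient.mk K)) :=
    ((Submodule.mkQ (I.map (Ideal.Quotient.mk K))).restrictScalars S) ∘ₗ (Submodule.mkQ K)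
  have hφ : Function.Surjective φ :=
    (Submodule.mkQ_surjective _).comp (Submodule.mkQ_surjective _)
  have hker : I = LinearMap.ker φ := by
    ext a
    rw [LinearMap.mem_ker]
    change _ ↔ (Submodule.Quotient.mk (Ideal.Quotient.mk K a) :
      (S ⧸ K) ⧸ I.map (Ideal.Quotient.mk K)) = 0
    rw [Submodule.Quotient.mk_eq_zero]
    exact (Ideal.mem_quotient_iff_mem h).symm
  exact ((Submodule.quotEquivOfEq _ _ hker).trans (φ.quotKerEquivOfSurjective hφ)).length_eq.symm

variable (k : Type u) [Field k] (n : ℕ)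

/-- The ring. -/
abbrev Rn : Type u := MvPowerSeries (Fin 3) k ⧸
  Ideal.span {(X 0 ^ 2 - X 1 ^ n : MvPowerSeries (Fin 3) k)}

/-- The quotient map. -/
noncomputable abbrev q : MvPowerSeries (Fin 3) k →+* Rn k n := Ideal.Quotient.mk _

theorem q_rel : (q k n (X 0)) ^ 2 = (q k n (X 1)) ^ n := by
  rw [← map_pow, ← map_pow, Ideal.Quotient.eq]
  exact Ideal.mem_span_singleton_self _

/-- The parameters. -/
noncomputable def par : Fin 2 → Rn k n := ![q k n (X 1) ^ 2, q k n (X 2) ^ 4]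

theorem par_range : Set.range (par k n) = {q k n (X 1) ^ 2, q k n (X 2) ^ 4} := by
  unfold par
  rw [Matrix.range_cons, Matrix.range_cons, Matrix.range_empty, Set.union_empty]
  rfl

theorem weaklyRegular (hn : 2 ≤ n) : IsWeaklyRegular (Rn k n) (List.ofFn (par k n)) := by
  have e1 : List.ofFn (par k n) = ([X 1 ^ 2, X 2 ^ 4] : List (MvPowerSeries (Fin 3) k)).map
      (algebraMap (MvPowerSeries (Fin 3) k) (Rn k n)) := by
    simp only [par, List.ofFn_succ, List.ofFn_zero, List.map_cons, List.map_nil, map_pow]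
    rfl
  rw [e1, isWeaklyRegular_map_algebraMap_iff, isWeaklyRegular_cons_iff, isWeaklyRegular_cons_iff]
  refine ⟨?_, ?_, IsWeaklyRegular.nil _ _⟩
  · apply IsSMulRegular.pow
    rw [isSMulRegular_iff_right_eq_zero_of_smul]
    intro a ha
    obtain ⟨a, rfl⟩ := Ideal.Quotient.mk_surjective a
    have ha' : Ideal.Quotient.mk (Ideal.span {(X 0 ^ 2 - X 1 ^ n : MvPowerSeries (Fin 3) k)})
      (X 1 * a) = 0 := ha
    rw [Ideal.Quotient.eq_zero_iff_mem] at ha' ⊢
    exact regular_y k n (by omega) a ha'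
  · rw [isSMulRegular_iff_right_eq_zero_of_smul]
    intro a ha
    obtain ⟨a, rfl⟩ := Submodule.Quotient.mk_surjective _ a
    obtain ⟨a, rfl⟩ := Ideal.Quotient.mk_surjective a
    rw [← Submodule.Quotient.mk_smul, Submodule.Quotient.mk_eq_zero,
      Submodule.mem_smul_pointwise_iff_exists] at ha
    rw [Submodule.Quotient.mk_eq_zero, Submodule.mem_smul_pointwise_iff_exists]
    obtain ⟨b, -, hb⟩ := ha
    obtain ⟨b, rfl⟩ := Ideal.Quotient.mk_surjective b
    have hb' : Ideal.Quotient.mk (Ideal.span {(X 0 ^ 2 - X 1 ^ n : MvPowerSeries (Fin 3) k)})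
      (X 1 ^ 2 * b) = Ideal.Quotient.mk _ (X 2 ^ 4 * a) := hb
    rw [Ideal.Quotient.eq, Ideal.mem_span_singleton] at hb'
    obtain ⟨c, hc⟩ := hb'
    obtain ⟨l, rfl⟩ : ∃ l, n = l + 2 := ⟨n - 2, by omega⟩
    have h1 : X 2 ^ 4 * a ∈ Ideal.span {(X 0 ^ 2 : MvPowerSeries (Fin 3) k), X 1 ^ 2} := by
      rw [Ideal.mem_span_pair]
      exact ⟨-c, b + X 1 ^ l * c, by linear_combination hc⟩
    have h2 := regular_t k a h1
    rw [Ideal.mem_span_pair] at h2
    obtain ⟨d, e, hde⟩ := h2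
    refine ⟨Ideal.Quotient.mk _ (d * X 1 ^ l + e), trivial, ?_⟩
    change Ideal.Quotient.mk (Ideal.span {(X 0 ^ 2 - X 1 ^ (l + 2) : MvPowerSeries (Fin 3) k)})
      (X 1 ^ 2 * (d * X 1 ^ l + e)) = Ideal.Quotient.mk _ a
    rw [Ideal.Quotient.eq, Ideal.mem_span_singleton]
    exact ⟨-d, by linear_combination hde⟩

theorem length_par (hn : 2 ≤ n) :
    Module.length (Rn k n) (Rn k n ⧸ Ideal.span (Set.range (par k n))) = 16 := by
  obtain ⟨l, rfl⟩ : ∃ l, n = l + 2 := ⟨n - 2, by omega⟩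
  have h1 : Ideal.span (Set.range (par k (l + 2))) =
      (Ideal.span {(X 0 ^ 2 : MvPowerSeries (Fin 3) k), X 1 ^ 2, X 2 ^ 4}).map (q k (l + 2)) := by
    rw [par_range, Ideal.map_span]
    simp only [Set.image_insert_eq, Set.image_singleton, map_pow]
    rw [q_rel]
    apply le_antisymm
    · exact Ideal.span_mono (Set.subset_insert _ _)
    · rw [Ideal.span_le]
      rintro f (rfl | hf)
      · have e0 : q k (l + 2) (X 1) ^ (l + 2) = q k (l + 2) (X 1) ^ l * q k (l + 2) (X 1) ^ 2 := by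
          ring
        rw [e0]
        exact Ideal.mul_mem_left _ _ (Ideal.subset_span (Set.mem_insert _ _))
      · exact Ideal.subset_span hf
  rw [h1, length_quot_map, ← ideal16, length_quot, card_expo, card_T16]
  · rfl
  · rw [Ideal.span_singleton_le_iff_mem]
    refine sub_mem (Ideal.subset_span (by simp)) ?_
    rw [pow_add]
    exact Ideal.mul_mem_left _ _ (Ideal.subset_span (by simp))

theorem length_seven (hn : 2 ≤ n) :
    Module.length (Rn k n) (Rn k n ⧸ (Ideal.span {(X 0 ^ 2 : MvPowerSeries (Fin 3) k), X 0 * X 1,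
      X 1 ^ 2, X 0 * X 2, X 1 * X 2 ^ 2, X 2 ^ 4}).map (q k n)) = 7 := by
  obtain ⟨l, rfl⟩ : ∃ l, n = l + 2 := ⟨n - 2, by omega⟩
  rw [length_quot_map, ← ideal7, length_quot, card_expo, card_T7]
  · rfl
  · rw [Ideal.span_singleton_le_iff_mem]
    refine sub_mem (Ideal.subset_span (by simp)) ?_
    rw [pow_add]
    exact Ideal.mul_mem_left _ _ (Ideal.subset_span (by simp))

theorem isIntDep_of_pow {A : Type*} [CommRing A] (J : Ideal A) (x : A) (e : ℕ)
    (h : x ^ (e + 1) ∈ J ^ (e + 1)) : IsIntDep J x := by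
  rw [isIntDep_iff]
  refine ⟨e, ?_⟩
  rw [pow_succ'] at h
  have hle : J * J ^ e ≤ J * (J ⊔ Ideal.span {x}) ^ e :=
    Ideal.mul_mono_right (Ideal.pow_right_mono le_sup_left e)
  exact hle h

/-- The ideal is integral over the parameter ideal. -/
theorem exists_reduction (hn : 3 ≤ n) (I : Ideal (Rn k n))
    (hI : I = (Ideal.span {(X 0 ^ 2 : MvPowerSeries (Fin 3) k), X 0 * X 1,
      X 1 ^ 2, X 0 * X 2, X 1 * X 2 ^ 2, X 2 ^ 4}).map (q k n)) :
    Ideal.span (Set.range (par k n)) ≤ I ∧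
      ∃ N : ℕ, I ^ (N + 1) = Ideal.span (Set.range (par k n)) * I ^ N := by
  classical
  set x := q k n (X 0) with hx
  set y := q k n (X 1) with hy
  set t := q k n (X 2) with ht
  have hrel : x ^ 2 = y ^ n := q_rel k n
  set J := Ideal.span (Set.range (par k n)) with hJ
  have hJ' : J = Ideal.span {y ^ 2, t ^ 4} := by rw [hJ, par_range]
  have hyJ : y ^ 2 ∈ J := by rw [hJ']; exact Ideal.subset_span (by simp)
  have htJ : t ^ 4 ∈ J := by rw [hJ']; exact Ideal.subset_span (by simp)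
  obtain ⟨l, rfl⟩ : ∃ l, n = l + 3 := ⟨n - 3, by omega⟩
  let s : Finset (Rn k (l + 3)) := {x ^ 2, x * y, x * t, y * t ^ 2}
  have hI' : I = J ⊔ Ideal.span (s : Set (Rn k (l + 3))) := by
    rw [hI, hJ', ← Ideal.span_union, Ideal.map_span]
    congr 1
    ext f
    simp only [s, Set.image_insert_eq, Set.image_singleton, map_pow, map_mul, Finset.coe_insert,
      Finset.coe_singleton, Set.mem_insert_iff, Set.mem_singleton_iff, Set.mem_union]
    rw [← hx, ← hy, ← ht]
    tauto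
  refine ⟨by rw [hI']; exact le_sup_left, ?_⟩
  rw [hI']
  refine exists_pow_eq_of_finset J s fun f hf => ?_
  simp only [s, Finset.mem_insert, Finset.mem_singleton] at hf
  rcases hf with rfl | rfl | rfl | rfl
  · refine isIntDep_of_pow J _ 0 ?_
    have e0 : y ^ (l + 3) = y ^ (l + 1) * y ^ 2 := by ring
    rw [zero_add, pow_one, pow_one, hrel, e0]
    exact Ideal.mul_mem_left _ _ hyJ
  · refine isIntDep_of_pow J _ 1 ?_
    have : (x * y) ^ (1 + 1) = y ^ (l + 1) * (y ^ 2) ^ 2 := by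
      rw [show (x * y) ^ (1 + 1) = x ^ 2 * y ^ 2 by ring, hrel]
      ring
    rw [this]
    exact Ideal.mul_mem_left _ _ (Ideal.pow_mem_pow hyJ 2)
  · refine isIntDep_of_pow J _ 3 ?_
    have : (x * t) ^ (3 + 1) = y ^ (2 * l) * ((y ^ 2) ^ 3 * t ^ 4) := by
      rw [show (x * t) ^ (3 + 1) = (x ^ 2) ^ 2 * t ^ 4 by ring, hrel]
      ring
    rw [this, pow_succ J 3]
    exact Ideal.mul_mem_left _ _ (Ideal.mul_mem_mul (Ideal.pow_mem_pow hyJ 3) htJ)
  · refine isIntDep_of_pow J _ 1 ?_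
    have : (y * t ^ 2) ^ (1 + 1) = y ^ 2 * t ^ 4 := by ring
    rw [this, pow_succ J 1, pow_one]
    exact Ideal.mul_mem_mul hyJ htJ

end K539.DoublePt
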