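import Groth.Agent.LocAlg.K539.LechComb
import Mathlib.RingTheory.Length
import Mathlib.RingTheory.LocalRing.MaximalIdeal.Basic
import Mathlib.RingTheory.Ideal.Operations
import Mathlib.Data.Prod.Lex
import Mathlib.Order.PiLex
import Mathlib.Algebra.Order.Group.PiLex
import Mathlib.Data.Pi.Interval
import Mathlib.Algebra.Order.Pi
import Mathlib.Order.Interval.Finset.Nat
import Mathlib.Data.Finset.Max
import Mathlib.RingTheory.Noetherian.Basic

/-!
# Lech's inequality via initial monomials
-/

set_option autoImplicit false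

universe u

open IsLocalRing

namespace K539.LechAlg

section Length

variable {O : Type u} [CommRing O] [IsLocalRing O]

/-- A cyclic module killed by the maximal ideal. -/
theorem length_span_singleton {X : Type*} [AddCommGroup X] [Module O X] (x : X)
    (hx : ∀ a ∈ maximalIdeal O, a • x = 0) (h0 : x ≠ 0) :
    Module.length O (Submodule.span O {x}) = 1 := by
  rw [Module.length_eq_one_iff]
  have e := LinearMap.quotKerEquivRange (LinearMap.toSpanSingleton O X x)
  have hker : LinearMap.ker (LinearMap.toSpanSingleton O X x) = maximalIdeal O := by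
    apply le_antisymm
    · apply le_maximalIdeal
      intro h
      apply h0
      have : (1 : O) ∈ LinearMap.ker (LinearMap.toSpanSingleton O X x) := by rw [h]; trivial
      simpa using this
    · intro a ha
      simpa using hx a ha
  have h1 : IsSimpleModule O (O ⧸ maximalIdeal O) := by
    rw [isSimpleModule_iff_isCoatom]
    exact (Ideal.isMaximal_def.1 (maximalIdeal.isMaximal O))
  have e2 : (O ⧸ LinearMap.ker (LinearMap.toSpanSingleton O X x)) ≃ₗ[O] (O ⧸ maximalIdeal O) :=
    Submodule.quotEquivOfEq _ _ hker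
  have e3 : LinearMap.range (LinearMap.toSpanSingleton O X x) ≃ₗ[O] Submodule.span O {x} :=
    LinearEquiv.ofEq _ _ (LinearMap.range_toSpanSingleton x)
  exact IsSimpleModule.congr (e3.symm.trans (e.symm.trans e2))

open Classical in
theorem length_quot_sup_span (J : Ideal O) (x : O) (hx : ∀ a ∈ maximalIdeal O, a * x ∈ J) :
    Module.length O (O ⧸ J) = Module.length O (O ⧸ (J ⊔ Ideal.span {x})) +
      (if x ∈ J then 0 else 1) := by
  split_ifs with h
  · have : J ⊔ Ideal.span {x} = J := by
      rw [sup_eq_left, Ideal.span_singleton_le_iff_mem]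
      exact h
    rw [this, add_zero]
  · have hle : J ≤ J ⊔ Ideal.span {x} := le_sup_left
    have h1 : Module.length O (Submodule.span O {(Submodule.Quotient.mk x : O ⧸ J)}) = 1 := by
      refine length_span_singleton _ (fun a ha => ?_) ?_
      · rw [← Submodule.Quotient.mk_smul, Submodule.Quotient.mk_eq_zero]
        exact hx a ha
      · rwa [Ne, Submodule.Quotient.mk_eq_zero]
    have h2 := Module.length_eq_add_of_exact
      (Submodule.span O {(Submodule.Quotient.mk x : O ⧸ J)}).subtype (Submodule.factor hle)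
      (Submodule.subtype_injective _) (Submodule.factor_surjective hle) (by
        rw [LinearMap.exact_iff, Submodule.range_subtype]
        have h3 : Submodule.span O {(Submodule.Quotient.mk x : O ⧸ J)} =
            Submodule.map J.mkQ (J ⊔ Ideal.span {x}) := by
          rw [Submodule.map_sup, Submodule.mkQ_map_self, bot_sup_eq]
          change _ = Submodule.map J.mkQ (Submodule.span O {x})
          rw [Submodule.map_span, Set.image_singleton]
          rfl
        rw [h3]
        ext z
        obtain ⟨z, rfl⟩ := Submodule.Quotient.mk_surjective _ z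
        have h4 : Submodule.factor hle (Submodule.Quotient.mk z) = Submodule.Quotient.mk z := rfl
        have h5 : Submodule.Quotient.mk z ∈ Submodule.map J.mkQ (J ⊔ Ideal.span {x}) ↔
            z ∈ Submodule.comap J.mkQ (Submodule.map J.mkQ (J ⊔ Ideal.span {x})) := Iff.rfl
        rw [LinearMap.mem_ker, h4, Submodule.Quotient.mk_eq_zero, h5, Submodule.comap_map_mkQ,
          ← sup_assoc, sup_idem])
    rw [h2, h1, add_comm]

theorem length_eq {ι κ : Type*} [LinearOrder κ] (k : ι → κ) (hk : Function.Injective k)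
    (v : ι → O) (I : Ideal O) (U : ι → Ideal O) (S : Finset ι)
    (hU : ∀ s ∈ S, U s = I ⊔ Ideal.span (v '' {t | t ∈ S ∧ k s < k t}))
    (hm : ∀ s ∈ S, ∀ a ∈ maximalIdeal O, a * v s ∈ U s) :
    Module.length O (O ⧸ I) = Module.length O (O ⧸ (I ⊔ Ideal.span (v '' (S : Set ι)))) +
      ({s | s ∈ S ∧ v s ∉ U s}.ncard : ℕ∞) := by
  classical
  revert hU hm
  induction S using Finset.induction_on_min_value k with
  | empty =>
    intro hU hm
    have h1 : I ⊔ Ideal.span (v '' ((∅ : Finset ι) : Set ι)) = I := by simp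
    rw [h1]
    simp
  | insert a S ha hmin ih =>
    intro hU hm
    have h1 : ∀ s ∈ S, {t | t ∈ insert a S ∧ k s < k t} = {t | t ∈ S ∧ k s < k t} := by
      intro s hs
      ext t
      simp only [Set.mem_setOf_eq, Finset.mem_insert]
      constructor
      · rintro ⟨rfl | h, h'⟩
        · exact absurd (hmin s hs) (not_le.2 h')
        · exact ⟨h, h'⟩
      · rintro ⟨h, h'⟩
        exact ⟨Or.inr h, h'⟩
    have h2 : {t | t ∈ insert a S ∧ k a < k t} = (S : Set ι) := by
      ext t
      simp only [Set.mem_setOf_eq, Finset.mem_insert, Finset.mem_coe]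
      constructor
      · rintro ⟨rfl | h, h'⟩
        · exact absurd h' (lt_irrefl _)
        · exact h
      · intro h
        exact ⟨Or.inr h, lt_of_le_of_ne (hmin t h) fun he => ha (hk he ▸ h)⟩
    have hUa : U a = I ⊔ Ideal.span (v '' (S : Set ι)) := by
      rw [hU a (Finset.mem_insert_self _ _), h2]
    rw [ih (fun s hs => by rw [hU s (Finset.mem_insert_of_mem hs), h1 s hs])
      (fun s hs => hm s (Finset.mem_insert_of_mem hs))]
    rw [length_quot_sup_span (I ⊔ Ideal.span (v '' (S : Set ι))) (v a) (by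
      rw [← hUa]; exact hm a (Finset.mem_insert_self _ _))]
    have h3 : I ⊔ Ideal.span (v '' (S : Set ι)) ⊔ Ideal.span {v a} =
        I ⊔ Ideal.span (v '' ((insert a S : Finset ι) : Set ι)) := by
      rw [Finset.coe_insert, Set.image_insert_eq, sup_assoc, ← Ideal.span_union, Set.union_singleton]
    rw [h3, add_assoc]
    congr 1
    rw [← hUa]
    have hfin : {s | s ∈ S ∧ v s ∉ U s}.Finite := S.finite_toSet.subset fun s hs => hs.1
    split_ifs with h
    · have : {s | s ∈ insert a S ∧ v s ∉ U s} = {s | s ∈ S ∧ v s ∉ U s} := by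
        ext s
        simp only [Set.mem_setOf_eq, Finset.mem_insert]
        constructor
        · rintro ⟨rfl | h', h''⟩
          · exact absurd h h''
          · exact ⟨h', h''⟩
        · rintro ⟨h', h''⟩
          exact ⟨Or.inr h', h''⟩
      rw [this, zero_add]
    · have : {s | s ∈ insert a S ∧ v s ∉ U s} = insert a {s | s ∈ S ∧ v s ∉ U s} := by
        ext s
        simp only [Set.mem_setOf_eq, Finset.mem_insert, Set.mem_insert_iff]
        constructor
        · rintro ⟨rfl | h', h''⟩
          · exact Or.inl rfl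
          · exact Or.inr ⟨h', h''⟩
        · rintro (rfl | ⟨h', h''⟩)
          · exact ⟨Or.inl rfl, h⟩
          · exact ⟨Or.inr h', h''⟩
      rw [this, Set.ncard_insert_of_notMem (fun h' => ha h'.1) hfin]
      push_cast
      rw [add_comm]

end Length

section Mon

variable {O : Type u} [CommRing O] {N : ℕ} (y : Fin N → O)

/-- The monomial of exponent `β`. -/
def mon (β : Fin N → ℕ) : O := ∏ i, y i ^ β i

theorem mon_add (β γ : Fin N → ℕ) : mon y (β + γ) = mon y β * mon y γ := by
  unfold mon
  rw [← Finset.prod_mul_distrib]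
  exact Finset.prod_congr rfl fun i _ => by rw [Pi.add_apply, pow_add]

theorem mon_zero : mon y 0 = 1 := by
  unfold mon
  simp

theorem mon_single (i : Fin N) : mon y (Pi.single i 1) = y i := by
  classical
  unfold mon
  rw [Finset.prod_eq_single i]
  · simp
  · intro j _ hj
    rw [Pi.single_eq_of_ne hj, pow_zero]
  · intro h
    exact absurd (Finset.mem_univ i) h

/-- The degree-lexicographic key. -/
def key (β : Fin N → ℕ) : ℕ ×ₗ Lex (Fin N → ℕ) := toLex (∑ i, β i, toLex β)

theorem key_injective : Function.Injective (key (N := N)) := by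
  intro β γ h
  unfold key at h
  have h1 := toLex.injective h
  rw [Prod.ext_iff] at h1
  exact toLex.injective h1.2

theorem key_lt_iff (β γ : Fin N → ℕ) : key β < key γ ↔
    (∑ i, β i) < (∑ i, γ i) ∨ (∑ i, β i) = (∑ i, γ i) ∧ toLex β < toLex γ := by
  unfold key
  rw [Prod.Lex.toLex_lt_toLex]

theorem key_add_lt {β β' : Fin N → ℕ} (γ : Fin N → ℕ) (h : key β < key β') :
    key (β + γ) < key (β' + γ) := by
  rw [key_lt_iff] at h ⊢
  simp only [Pi.add_apply, Finset.sum_add_distrib]
  rcases h with h | ⟨h, h'⟩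
  · left; omega
  · right
    refine ⟨by omega, ?_⟩
    rw [toLex_add, toLex_add]
    exact add_lt_add_left h' _

theorem key_lt_of_sum_lt {β γ : Fin N → ℕ} (h : (∑ i, β i) < (∑ i, γ i)) : key β < key γ :=
  (key_lt_iff _ _).2 (Or.inl h)

/-- The ideal of the monomials of greater exponent. -/
def T (β : Fin N → ℕ) : Ideal O := Ideal.span (mon y '' {γ | key β < key γ})

/-- The initial exponents of an ideal. -/
def P (I : Ideal O) : Set (Fin N → ℕ) := {β | mon y β ∈ I ⊔ T y β}

theorem mul_mon_mem_T {β : Fin N → ℕ} {x : O} (hx : x ∈ T y β) (δ : Fin N → ℕ) :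
    x * mon y δ ∈ T y (β + δ) := by
  unfold T at hx
  induction hx using Submodule.span_induction with
  | mem x h =>
    obtain ⟨γ, hγ, rfl⟩ := h
    rw [← mon_add]
    exact Ideal.subset_span ⟨γ + δ, key_add_lt δ hγ, rfl⟩
  | zero => rw [zero_mul]; exact zero_mem _
  | add x y _ _ hx hy => rw [add_mul]; exact add_mem hx hy
  | smul a x _ hx => rw [smul_mul_assoc]; exact Submodule.smul_mem _ _ hx

theorem T_mul_T (β γ : Fin N → ℕ) : T y β * T y γ ≤ T y (β + γ) := by
  unfold T
  rw [Ideal.span_mul_span', Ideal.span_le]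
  rintro _ ⟨_, ⟨β', hβ', rfl⟩, _, ⟨γ', hγ', rfl⟩, rfl⟩
  change mon y β' * mon y γ' ∈ _
  rw [← mon_add]
  refine Ideal.subset_span ⟨β' + γ', ?_, rfl⟩
  refine lt_trans (key_add_lt γ hβ') ?_
  rw [add_comm β', add_comm β']
  exact key_add_lt β' hγ'

theorem isUpperSet_P (I : Ideal O) : IsUpperSet (P y I) := by
  intro β β' h hβ
  obtain ⟨δ, rfl⟩ : ∃ δ, β' = β + δ := by
    refine ⟨fun i => β' i - β i, funext fun i => ?_⟩
    have h1 : β i ≤ β' i := h i
    simp only [Pi.add_apply]
    omega
  obtain ⟨i, hi, f, hf, hif⟩ := Submodule.mem_sup.1 hβ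
  change mon y (β + δ) ∈ I ⊔ T y (β + δ)
  rw [mon_add, ← hif, add_mul]
  exact Submodule.add_mem_sup (I.mul_mem_right _ hi) (mul_mon_mem_T y hf δ)

theorem add_mem_P {I J : Ideal O} {β γ : Fin N → ℕ} (hβ : β ∈ P y I) (hγ : γ ∈ P y J) :
    β + γ ∈ P y (I * J) := by
  obtain ⟨i, hi, f, hf, hif⟩ := Submodule.mem_sup.1 hβ
  obtain ⟨j, hj, g, hg, hjg⟩ := Submodule.mem_sup.1 hγ
  change mon y (β + γ) ∈ I * J ⊔ T y (β + γ)
  have h1 : mon y (β + γ) = i * j + (f * mon y γ + g * mon y β - f * g) := by
    rw [mon_add, ← hif, ← hjg]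
    ring
  rw [h1]
  refine Submodule.add_mem_sup (Ideal.mul_mem_mul hi hj) ?_
  refine sub_mem (add_mem (mul_mon_mem_T y hf γ) ?_) (T_mul_T y β γ (Ideal.mul_mem_mul hf hg))
  rw [add_comm β γ]
  exact mul_mon_mem_T y hg β

theorem nsmul_mem_P {I : Ideal O} {δ : Fin N → ℕ} (hδ : δ ∈ P y I) (n : ℕ) :
    n • δ ∈ P y (I ^ n) := by
  induction n with
  | zero =>
    rw [pow_zero, Ideal.one_eq_top]
    change mon y (0 • δ) ∈ (⊤ : Ideal O) ⊔ T y (0 • δ)
    rw [top_sup_eq]
    trivial
  | succ n ih =>
    rw [succ_nsmul, pow_succ]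
    exact add_mem_P y ih hδ

theorem P_mono {I J : Ideal O} (h : I ≤ J) : P y I ⊆ P y J := fun _ hβ =>
  (sup_le_sup_right h _ : _ ≤ _) hβ

variable [IsLocalRing O] (hy : Ideal.span (Set.range y) = maximalIdeal O)

include hy

theorem mon_mem (β : Fin N → ℕ) : mon y β ∈ maximalIdeal O ^ (∑ i, β i) := by
  unfold mon
  rw [← Finset.prod_pow_eq_pow_sum]
  refine Ideal.prod_mem_prod fun i _ => Ideal.pow_mem_pow ?_ _
  rw [← hy]
  exact Ideal.subset_span ⟨i, rfl⟩

theorem pow_le_span (n : ℕ) : maximalIdeal O ^ n ≤ Ideal.span (mon y '' {β | ∑ i, β i = n}) := by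
  induction n with
  | zero =>
    have : mon y 0 ∈ Ideal.span (mon y '' {β | ∑ i, β i = 0}) :=
      Ideal.subset_span ⟨0, by simp, rfl⟩
    rw [mon_zero] at this
    rw [Ideal.eq_top_of_isUnit_mem _ this isUnit_one]
    exact le_top
  | succ n ih =>
    rw [pow_succ]
    refine (Ideal.mul_mono_left ih).trans ?_
    rw [← hy, Ideal.span_mul_span', Ideal.span_le]
    rintro _ ⟨_, ⟨β, hβ, rfl⟩, _, ⟨i, rfl⟩, rfl⟩
    change mon y β * y i ∈ _
    rw [← mon_single y i, ← mon_add]
    refine Ideal.subset_span ⟨β + Pi.single i 1, ?_, rfl⟩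
    simp only [Set.mem_setOf_eq, Pi.add_apply, Finset.sum_add_distrib] at hβ ⊢
    rw [hβ]
    simp

theorem pow_le_T {n : ℕ} {β : Fin N → ℕ} (h : (∑ i, β i) < n) : maximalIdeal O ^ n ≤ T y β := by
  refine (pow_le_span y hy n).trans (Ideal.span_mono ?_)
  rintro _ ⟨γ, hγ, rfl⟩
  exact ⟨γ, key_lt_of_sum_lt (by rw [Set.mem_setOf_eq] at hγ; omega), rfl⟩

theorem smul_mon_mem (I : Ideal O) (β : Fin N → ℕ) (a : O) (ha : a ∈ maximalIdeal O) :
    a * mon y β ∈ I ⊔ T y β := by
  refine Ideal.mem_sup_right ?_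
  rw [← hy] at ha
  induction ha using Submodule.span_induction with
  | mem x h =>
    obtain ⟨i, rfl⟩ := h
    rw [← mon_single y i, ← mon_add]
    refine Ideal.subset_span ⟨Pi.single i 1 + β, key_lt_of_sum_lt ?_, rfl⟩
    simp only [Pi.add_apply, Finset.sum_add_distrib]
    simp
  | zero => rw [zero_mul]; exact zero_mem _
  | add x y _ _ hx hy => rw [add_mul]; exact add_mem hx hy
  | smul a x _ hx => rw [smul_mul_assoc]; exact Submodule.smul_mem _ _ hx

/-- The colength of a primary ideal is the number of missing exponents. -/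
theorem length_eq_ncard (I : Ideal O) (s : ℕ) (hI : maximalIdeal O ^ s ≤ I) :
    (P y I)ᶜ.Finite ∧ Module.length O (O ⧸ I) = ((P y I)ᶜ.ncard : ℕ∞) := by
  classical
  have hfin : {β : Fin N → ℕ | ∑ i, β i < s}.Finite := by
    refine (Set.finite_Icc (0 : Fin N → ℕ) (fun _ => s)).subset fun β hβ => ⟨?_, fun i => ?_⟩
    · exact fun i => Nat.zero_le _
    · have : β i ≤ ∑ j, β j := Finset.single_le_sum (f := β) (fun _ _ => Nat.zero_le _) (Finset.mem_univ i)
      rw [Set.mem_setOf_eq] at hβ
      change β i ≤ s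
      omega
  have hout : ∀ β : Fin N → ℕ, s ≤ ∑ i, β i → mon y β ∈ I := fun β hβ =>
    hI (Ideal.pow_le_pow_right hβ (mon_mem y hy β))
  have hPc : (P y I)ᶜ = {β | β ∈ hfin.toFinset ∧ mon y β ∉ I ⊔ T y β} := by
    ext β
    simp only [Set.mem_compl_iff, Set.mem_setOf_eq, Set.Finite.mem_toFinset]
    constructor
    · intro h
      refine ⟨?_, h⟩
      by_contra hlt
      exact h (Ideal.mem_sup_left (hout β (not_lt.1 hlt)))
    · exact fun h => h.2
  have key := length_eq key key_injective (mon y) I (fun β => I ⊔ T y β) hfin.toFinset ?_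
    (fun β _ a ha => smul_mon_mem y hy I β a ha)
  · rw [← hPc] at key
    refine ⟨?_, ?_⟩
    · rw [hPc]
      exact hfin.subset fun β hβ => hfin.mem_toFinset.1 hβ.1
    · rw [key]
      have htop : I ⊔ Ideal.span (mon y '' (hfin.toFinset : Set (Fin N → ℕ))) = ⊤ := by
        rcases Nat.eq_zero_or_pos s with rfl | hs
        · rw [pow_zero, Ideal.one_eq_top, top_le_iff] at hI
          rw [hI, top_sup_eq]
        · refine Ideal.eq_top_of_isUnit_mem _ (Ideal.mem_sup_right
            (Ideal.subset_span ⟨0, ?_, mon_zero y⟩)) isUnit_one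
          rw [Set.Finite.coe_toFinset]
          simpa using hs
      rw [htop]
      have : Subsingleton (O ⧸ (⊤ : Ideal O)) := Ideal.Quotient.subsingleton_iff.2 rfl
      rw [Module.length_eq_zero, zero_add]
  · intro β hβ
    change I ⊔ T y β = _
    refine le_antisymm (sup_le le_sup_left ?_) (sup_le le_sup_left ?_)
    · unfold T
      rw [Ideal.span_le]
      rintro _ ⟨γ, hγ, rfl⟩
      rcases lt_or_ge (∑ i, γ i) s with h | h
      · exact Ideal.mem_sup_right (Ideal.subset_span ⟨γ, ⟨hfin.mem_toFinset.2 h, hγ⟩, rfl⟩)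
      · exact Ideal.mem_sup_left (hout γ h)
    · refine le_trans (Ideal.span_mono ?_) le_sup_right
      exact Set.image_mono fun γ hγ => hγ.2

end Mon

end K539.LechAlg
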