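import Mathlib.Algebra.Order.Antidiag.Pi
import Mathlib.Algebra.Order.Antidiag.FinsuppEquiv
import Mathlib.Data.Nat.Choose.Sum
import Mathlib.Order.WellQuasiOrder
import Mathlib.Order.Minimal
import Mathlib.Analysis.SpecificLimits.Basic
import Mathlib.Data.Fin.Tuple.Basic
import Mathlib.Data.Nat.Factorial.Cast
import Mathlib.Algebra.BigOperators.Field
import Mathlib.Data.Set.Card.Arithmetic

/-!
# The combinatorics of Lech's inequality

The complement of an upper set of `ℕ^N` is a finite disjoint union of translates of coordinate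
orthants (Stanley decomposition); counting of lattice points in them.
-/

set_option autoImplicit false

open Filter Topology Finset

namespace K539.LechComb

/-- The translate by `α` of the coordinate orthant with index set `F`. -/
def piece {N : ℕ} (s : (Fin N → ℕ) × Finset (Fin N)) : Set (Fin N → ℕ) :=
  {β | s.1 ≤ β ∧ ∀ i ∉ s.2, β i = s.1 i}

/-- Put `i` in front, bounded case. -/
def ext0 {N : ℕ} (i : ℕ) (s : (Fin N → ℕ) × Finset (Fin N)) :
    (Fin (N + 1) → ℕ) × Finset (Fin (N + 1)) :=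
  (Fin.cons i s.1, s.2.map (Fin.succEmb N))

/-- Put `[i, ∞)` in front. -/
def ext1 {N : ℕ} (i : ℕ) (s : (Fin N → ℕ) × Finset (Fin N)) :
    (Fin (N + 1) → ℕ) × Finset (Fin (N + 1)) :=
  (Fin.cons i s.1, insert 0 (s.2.map (Fin.succEmb N)))

theorem mem_ext0 {N : ℕ} (i : ℕ) (s : (Fin N → ℕ) × Finset (Fin N)) (β : Fin (N + 1) → ℕ) :
    β ∈ piece (ext0 i s) ↔ β 0 = i ∧ Fin.tail β ∈ piece s := by
  unfold piece ext0
  simp only [Set.mem_setOf_eq]
  constructor
  · rintro ⟨h1, h2⟩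
    refine ⟨?_, ?_, ?_⟩
    · have := h2 0 (by simp [Fin.succ_ne_zero])
      simpa using this
    · intro j
      have := h1 j.succ
      simpa [Fin.tail] using this
    · intro j hj
      have := h2 j.succ (by simpa using hj)
      simpa [Fin.tail] using this
  · rintro ⟨h1, h2, h3⟩
    refine ⟨?_, ?_⟩
    · intro j
      refine Fin.cases ?_ (fun j => ?_) j
      · simp [h1]
      · simpa [Fin.tail] using h2 j
    · intro j
      refine Fin.cases ?_ (fun j => ?_) j
      · simp [h1]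
      · intro hj
        have := h3 j (by simpa using hj)
        simpa [Fin.tail] using this

theorem mem_ext1 {N : ℕ} (i : ℕ) (s : (Fin N → ℕ) × Finset (Fin N)) (β : Fin (N + 1) → ℕ) :
    β ∈ piece (ext1 i s) ↔ i ≤ β 0 ∧ Fin.tail β ∈ piece s := by
  unfold piece ext1
  simp only [Set.mem_setOf_eq]
  constructor
  · rintro ⟨h1, h2⟩
    refine ⟨?_, ?_, ?_⟩
    · have := h1 0
      simpa using this
    · intro j
      have := h1 j.succ
      simpa [Fin.tail] using this
    · intro j hj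
      have := h2 j.succ (by simpa [Fin.succ_ne_zero] using hj)
      simpa [Fin.tail] using this
  · rintro ⟨h1, h2, h3⟩
    refine ⟨?_, ?_⟩
    · intro j
      refine Fin.cases ?_ (fun j => ?_) j
      · simpa using h1
      · simpa [Fin.tail] using h2 j
    · intro j
      refine Fin.cases ?_ (fun j => ?_) j
      · simp
      · intro hj
        have := h3 j (by simpa [Fin.succ_ne_zero] using hj)
        simpa [Fin.tail] using this

/-- An upper set of `ℕ^N` is generated by finitely many elements. -/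
theorem exists_gens {N : ℕ} (L : Set (Fin N → ℕ)) :
    ∃ T : Finset (Fin N → ℕ), (∀ t ∈ T, t ∈ L) ∧ ∀ β ∈ L, ∃ t ∈ T, t ≤ β := by
  have h1 : {x | Minimal (· ∈ L) x}.Finite :=
    WellQuasiOrderedLE.finite_of_isAntichain (setOf_minimal_antichain _)
  refine ⟨h1.toFinset, fun t ht => ?_, fun β hβ => ?_⟩
  · rw [Set.Finite.mem_toFinset] at ht
    exact ht.1
  · obtain ⟨m, hm1, hm2⟩ := exists_minimal_le_of_wellFoundedLT (· ∈ L) β hβ
    exact ⟨m, by rw [Set.Finite.mem_toFinset]; exact hm2, hm1⟩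

/-- The complement of an upper set of `ℕ^N` is a finite disjoint union of pieces. -/
theorem exists_pieces (N : ℕ) : ∀ (L : Set (Fin N → ℕ)), IsUpperSet L →
    ∃ S : Finset ((Fin N → ℕ) × Finset (Fin N)), (∀ β, β ∉ L ↔ ∃ s ∈ S, β ∈ piece s) ∧
      ∀ s ∈ S, ∀ t ∈ S, ∀ β, β ∈ piece s → β ∈ piece t → s = t := by
  classical
  induction N with
  | zero =>
    intro L _
    by_cases h : (0 : Fin 0 → ℕ) ∈ L
    · refine ⟨∅, fun β => ?_, by simp⟩
      rw [Subsingleton.elim β 0]
      exact ⟨fun h' => (h' h).elim, fun h' => by simp at h'⟩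
    · refine ⟨{(0, ∅)}, fun β => ?_, ?_⟩
      · rw [Subsingleton.elim β 0]
        exact ⟨fun _ => ⟨_, Finset.mem_singleton_self _, le_rfl, fun _ _ => rfl⟩, fun _ => h⟩
      · intro s hs t ht
        rw [Finset.mem_singleton] at hs ht
        simp [hs, ht]
  | succ N ih =>
    intro L hL
    let sl : ℕ → Set (Fin N → ℕ) := fun i => {β | (Fin.cons i β : Fin (N + 1) → ℕ) ∈ L}
    have hsl : ∀ i, IsUpperSet (sl i) := by
      intro i a b hab ha
      refine hL ?_ ha
      intro j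
      refine Fin.cases ?_ (fun j => ?_) j
      · simp
      · simpa using hab j
    choose S hS1 hS2 using fun i => ih (sl i) (hsl i)
    obtain ⟨T, hT1, hT2⟩ := exists_gens L
    let i₀ := T.sup (fun t => t 0)
    have hstab : ∀ i, i₀ ≤ i → sl i = sl i₀ := by
      intro i hi
      ext β
      constructor
      · intro h
        obtain ⟨t, ht, hle⟩ := hT2 _ h
        refine hL ?_ (hT1 t ht)
        intro j
        refine Fin.cases ?_ (fun j => ?_) j
        · simpa using Finset.le_sup (f := fun t => t 0) ht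
        · simpa using hle j.succ
      · intro h
        refine hL ?_ h
        intro j
        refine Fin.cases ?_ (fun j => ?_) j
        · simpa using hi
        · simp
    have hmem : ∀ β : Fin (N + 1) → ℕ, β ∈ L ↔ Fin.tail β ∈ sl (β 0) := by
      intro β
      change β ∈ L ↔ Fin.cons (β 0) (Fin.tail β) ∈ L
      rw [Fin.cons_self_tail]
    refine ⟨((Finset.range i₀).biUnion fun i => (S i).image (ext0 i)) ∪ (S i₀).image (ext1 i₀),
      ?_, ?_⟩
    · intro β
      rw [hmem]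
      constructor
      · intro h
        rcases lt_or_ge (β 0) i₀ with hlt | hge
        · obtain ⟨s, hs, hβ⟩ := (hS1 _ _).1 h
          refine ⟨ext0 (β 0) s, ?_, (mem_ext0 _ _ _).2 ⟨rfl, hβ⟩⟩
          rw [Finset.mem_union, Finset.mem_biUnion]
          exact Or.inl ⟨β 0, Finset.mem_range.2 hlt, Finset.mem_image_of_mem _ hs⟩
        · rw [hstab _ hge] at h
          obtain ⟨s, hs, hβ⟩ := (hS1 _ _).1 h
          refine ⟨ext1 i₀ s, ?_, (mem_ext1 _ _ _).2 ⟨hge, hβ⟩⟩
          rw [Finset.mem_union]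
          exact Or.inr (Finset.mem_image_of_mem _ hs)
      · rintro ⟨s, hs, hβ⟩
        rw [Finset.mem_union, Finset.mem_biUnion] at hs
        rcases hs with ⟨i, hi, hs⟩ | hs
        · obtain ⟨s, hs', rfl⟩ := Finset.mem_image.1 hs
          rw [mem_ext0] at hβ
          rw [hβ.1]
          exact (hS1 _ _).2 ⟨s, hs', hβ.2⟩
        · obtain ⟨s, hs', rfl⟩ := Finset.mem_image.1 hs
          rw [mem_ext1] at hβ
          rw [hstab _ hβ.1]
          exact (hS1 _ _).2 ⟨s, hs', hβ.2⟩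
    · intro s hs t ht β hβs hβt
      rw [Finset.mem_union, Finset.mem_biUnion] at hs ht
      rcases hs with ⟨i, hi, hs⟩ | hs
      · obtain ⟨s, hs', rfl⟩ := Finset.mem_image.1 hs
        rw [mem_ext0] at hβs
        rcases ht with ⟨j, hj, ht⟩ | ht
        · obtain ⟨t, ht', rfl⟩ := Finset.mem_image.1 ht
          rw [mem_ext0] at hβt
          obtain rfl : i = j := hβs.1.symm.trans hβt.1
          rw [hS2 i s hs' t ht' _ hβs.2 hβt.2]
        · obtain ⟨t, ht, rfl⟩ := Finset.mem_image.1 ht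
          rw [mem_ext1] at hβt
          rw [Finset.mem_range] at hi
          omega
      · obtain ⟨s, hs', rfl⟩ := Finset.mem_image.1 hs
        rw [mem_ext1] at hβs
        rcases ht with ⟨j, hj, ht⟩ | ht
        · obtain ⟨t, ht, rfl⟩ := Finset.mem_image.1 ht
          rw [mem_ext0] at hβt
          rw [Finset.mem_range] at hj
          omega
        · obtain ⟨t, ht', rfl⟩ := Finset.mem_image.1 ht
          rw [mem_ext1] at hβt
          rw [hS2 i₀ s hs' t ht' _ hβs.2 hβt.2]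

/-- Upper bound. -/
theorem card_le {N : ℕ} (s : (Fin N → ℕ) × Finset (Fin N)) (P Q : Set (Fin N → ℕ)) (n : ℕ)
    (hn : 0 < n) (hP : Pᶜ.Finite) (hPQ : ∀ δ ∈ P, ∀ γ, n • δ + γ ∈ Q) :
    (piece s ∩ Qᶜ).Finite ∧ (piece s ∩ Qᶜ).ncard ≤ n ^ s.2.card * Pᶜ.ncard := by
  classical
  have : Finite ↥Pᶜ := hP
  let f : ↥(piece s ∩ Qᶜ) → (s.2 → Fin n) × ↥Pᶜ := fun β =>
    (fun i => ⟨(β.1 i - s.1 i) % n, Nat.mod_lt _ hn⟩,
      ⟨fun i => (β.1 i - s.1 i) / n, by
        intro h
        apply β.2.2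
        have h1 := hPQ _ h (fun i => (β.1 i - s.1 i) % n + s.1 i)
        convert h1 using 1
        funext i
        have h2 : s.1 i ≤ β.1 i := β.2.1.1 i
        have h3 := Nat.div_add_mod (β.1 i - s.1 i) n
        simp only [Pi.add_apply, Pi.smul_apply, smul_eq_mul]
        omega⟩)
  have hf : Function.Injective f := by
    intro β β' h
    rw [Prod.ext_iff] at h
    obtain ⟨h1, h2⟩ := h
    apply Subtype.ext
    funext i
    have h3 : s.1 i ≤ β.1 i := β.2.1.1 i
    have h4 : s.1 i ≤ β'.1 i := β'.2.1.1 i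
    by_cases hi : i ∈ s.2
    · have h5 : (β.1 i - s.1 i) % n = (β'.1 i - s.1 i) % n :=
        congrArg Fin.val (congrFun h1 ⟨i, hi⟩)
      have h6 : (β.1 i - s.1 i) / n = (β'.1 i - s.1 i) / n := congrFun (congrArg Subtype.val h2) i
      have h7 := Nat.div_add_mod (β.1 i - s.1 i) n
      have h8 := Nat.div_add_mod (β'.1 i - s.1 i) n
      rw [h5, h6, h8] at h7
      omega
    · rw [β.2.1.2 i hi, β'.2.1.2 i hi]
  have : Finite ↥(piece s ∩ Qᶜ) := Finite.of_injective f hf
  refine ⟨this, ?_⟩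
  have h1 := Nat.card_le_card_of_injective f hf
  rw [Nat.card_prod, Nat.card_fun, Nat.card_fin, Nat.card_eq_fintype_card (α := s.2),
    Fintype.card_coe] at h1
  exact h1

/-- The number of points of small degree in an orthant. -/
theorem card_orthant {N : ℕ} (F : Finset (Fin N)) (m : ℕ) :
    ∃ S : Finset (Fin N → ℕ), (∀ γ ∈ S, (∑ i, γ i) < m + 1 ∧ ∀ i ∉ F, γ i = 0) ∧
      (m + 1) ^ F.card ≤ F.card.factorial * S.card := by
  classical
  refine ⟨((Finset.range (m + 1)).biUnion fun k => Finset.finsuppAntidiag F k).image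
    (fun f : Fin N →₀ ℕ => (f : Fin N → ℕ)), ?_, ?_⟩
  · intro γ hγ
    rw [Finset.mem_image] at hγ
    obtain ⟨γ, hγ, rfl⟩ := hγ
    rw [Finset.mem_biUnion] at hγ
    obtain ⟨k, hk, hγ⟩ := hγ
    rw [Finset.mem_finsuppAntidiag] at hγ
    have h1 : ∀ i ∉ F, γ i = 0 := fun i hi => by
      by_contra h
      exact hi (hγ.2 (Finsupp.mem_support_iff.2 h))
    refine ⟨?_, h1⟩
    rw [← Finset.sum_subset (Finset.subset_univ F) fun i _ hi => h1 i hi, hγ.1]
    exact Finset.mem_range.1 hk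
  · rw [Finset.card_image_of_injective _ DFunLike.coe_injective, Finset.card_biUnion]
    · simp only [Finset.card_finsuppAntidiag_nat_eq_multichoose]
      rw [Nat.sum_range_multichoose, ← Nat.descFactorial_eq_factorial_mul_choose]
      refine le_trans ?_ (Nat.pow_sub_le_descFactorial (m + F.card) F.card)
      rw [show m + F.card + 1 - F.card = m + 1 by omega]
    · intro i _ j _ hij
      rw [Function.onFun, Finset.disjoint_left]
      intro γ h1 h2
      rw [Finset.mem_finsuppAntidiag] at h1 h2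
      exact hij (h1.1.symm.trans h2.1)

/-- Lower bound. -/
theorem le_card {N : ℕ} (s : (Fin N → ℕ) × Finset (Fin N)) (n : ℕ)
    (hn : (∑ i, s.1 i) < n) :
    ∃ S : Finset (Fin N → ℕ), (∀ γ ∈ S, (∑ i, γ i) < n ∧ γ ∈ piece s) ∧
      (n - ∑ i, s.1 i) ^ s.2.card ≤ s.2.card.factorial * S.card := by
  classical
  obtain ⟨m, hm⟩ : ∃ m, n - ∑ i, s.1 i = m + 1 := ⟨n - (∑ i, s.1 i) - 1, by omega⟩
  obtain ⟨S, hS1, hS2⟩ := card_orthant s.2 m
  refine ⟨S.image (fun γ => s.1 + γ), ?_, ?_⟩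
  · intro γ hγ
    obtain ⟨γ, hγ', rfl⟩ := Finset.mem_image.1 hγ
    obtain ⟨h1, h2⟩ := hS1 γ hγ'
    refine ⟨?_, ?_, ?_⟩
    · simp only [Pi.add_apply, Finset.sum_add_distrib]
      omega
    · exact fun i => Nat.le_add_right _ _
    · intro i hi
      simp [h2 i hi]
  · rw [Finset.card_image_of_injective _ (add_right_injective _), hm]
    exact hS2

theorem tendsto_sub_div_pow (c : ℕ) (r : ℕ) :
    Tendsto (fun n : ℕ => (((n - c : ℕ) : ℝ) ^ r) / (n : ℝ) ^ r) atTop (𝓝 1) := by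
  have h1 : Tendsto (fun n : ℕ => (1 : ℝ) - (c : ℝ) / (n : ℝ)) atTop (𝓝 (1 - 0)) :=
    tendsto_const_nhds.sub (tendsto_const_div_atTop_nhds_zero_nat (c : ℝ))
  rw [sub_zero] at h1
  have h2 := h1.pow r
  rw [one_pow] at h2
  refine h2.congr' ?_
  filter_upwards [eventually_gt_atTop c] with n hn
  have hn0 : (n : ℝ) ≠ 0 := by
    have : 0 < n := by omega
    positivity
  rw [← div_pow, Nat.cast_sub hn.le, sub_div, div_self hn0]

theorem tendsto_pow_div {f r : ℕ} (h : f ≤ r) :
    Tendsto (fun n : ℕ => ((n : ℝ) ^ f) / (n : ℝ) ^ r) atTop (𝓝 (if f = r then 1 else 0)) := by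
  split_ifs with h1
  · subst h1
    refine tendsto_const_nhds.congr' ?_
    filter_upwards [eventually_gt_atTop 0] with n hn
    have : (n : ℝ) ≠ 0 := by positivity
    rw [div_self (pow_ne_zero _ this)]
  · obtain ⟨k, rfl⟩ : ∃ k, r = f + (k + 1) := ⟨r - f - 1, by omega⟩
    have h2 : Tendsto (fun n : ℕ => (1 : ℝ) / (n : ℝ) ^ (k + 1)) atTop (𝓝 0) := by
      have h3 := (tendsto_pow_atTop (α := ℝ) (n := k + 1) (by omega)).comp
        (tendsto_natCast_atTop_atTop (R := ℝ))
      exact (tendsto_inv_atTop_zero.comp h3).congr fun n => by simp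
    refine h2.congr' ?_
    filter_upwards [eventually_gt_atTop 0] with n hn
    have : (n : ℝ) ≠ 0 := by positivity
    rw [pow_add]
    field_simp
    ring

/-- The numerical heart of Lech's inequality. -/
theorem core {N : ℕ} (L P : Set (Fin N → ℕ)) (Q : ℕ → Set (Fin N → ℕ)) (hL : IsUpperSet L)
    (hP : Pᶜ.Finite) (hLQ : ∀ n, L ⊆ Q n) (hPQ : ∀ n, ∀ δ ∈ P, ∀ γ, n • δ + γ ∈ Q n)
    (a : ℕ → ℕ)
    (ha : ∀ n, ∀ S : Finset (Fin N → ℕ), (∀ γ ∈ S, (∑ i, γ i) < n ∧ γ ∉ L) → S.card ≤ a n)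
    (r : ℕ) (eI eO : ℝ)
    (hI : Tendsto (fun n : ℕ => (r.factorial : ℝ) * ((Q n)ᶜ.ncard : ℝ) / (n : ℝ) ^ r) atTop (𝓝 eI))
    (hO : Tendsto (fun n : ℕ => (r.factorial : ℝ) * (a n : ℝ) / (n : ℝ) ^ r) atTop (𝓝 eO)) :
    eI ≤ (r.factorial : ℝ) * eO * (Pᶜ.ncard : ℝ) := by
  classical
  obtain ⟨S, hS1, hS2⟩ := exists_pieces N L hL
  -- the dimension bound
  have hdim : ∀ s ∈ S, s.2.card ≤ r := by
    intro s hs
    by_contra hlt
    push Not at hlt
    set c := ∑ i, s.1 i with hc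
    have h1 : ∀ n, c < n → (n - c) ^ s.2.card ≤ s.2.card.factorial * a n := by
      intro n hn
      obtain ⟨T, hT1, hT2⟩ := le_card s n hn
      refine hT2.trans (Nat.mul_le_mul_left _ (ha n T fun γ hγ => ⟨(hT1 γ hγ).1, ?_⟩))
      exact (hS1 γ).2 ⟨s, hs, (hT1 γ hγ).2⟩
    have h2 : ∀ᶠ n : ℕ in atTop, (1 / (s.2.card.factorial * 2 ^ s.2.card) : ℝ) * n ≤
        (r.factorial : ℝ) * (a n : ℝ) / (n : ℝ) ^ r := by
      filter_upwards [eventually_gt_atTop (2 * c + 1)] with n hn
      have hn0 : (0 : ℝ) < n := by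
        have : 0 < n := by omega
        positivity
      have hf0 : (0 : ℝ) < s.2.card.factorial := by positivity
      have h3 : ((n : ℝ) / 2) ^ s.2.card ≤ s.2.card.factorial * a n := by
        have h4 : ((n : ℝ) / 2) ≤ ((n - c : ℕ) : ℝ) := by
          rw [Nat.cast_sub (by omega)]
          have : (2 * c : ℝ) ≤ n := by exact_mod_cast (by omega : 2 * c ≤ n)
          linarith
        refine (pow_le_pow_left₀ (by positivity) h4 _).trans ?_
        exact_mod_cast h1 n (by omega)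
      have h5 : (n : ℝ) ^ (r + 1) ≤ (n : ℝ) ^ s.2.card :=
        pow_le_pow_right₀ (by exact_mod_cast (by omega : 1 ≤ n)) hlt
      rw [div_pow, div_le_iff₀ (by positivity)] at h3
      rw [le_div_iff₀ (by positivity), one_div, mul_assoc, ← pow_succ', inv_mul_le_iff₀ (by positivity)]
      have h6 : (1 : ℝ) ≤ r.factorial := by exact_mod_cast Nat.one_le_iff_ne_zero.2 (Nat.factorial_ne_zero r)
      calc (n : ℝ) ^ (r + 1) ≤ (n : ℝ) ^ s.2.card := h5
        _ ≤ s.2.card.factorial * a n * 2 ^ s.2.card := h3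
        _ = (s.2.card.factorial * 2 ^ s.2.card) * (1 * a n) := by ring
        _ ≤ (s.2.card.factorial * 2 ^ s.2.card) * (r.factorial * a n) := by gcongr
    have h3 : Tendsto (fun n : ℕ => (1 / (s.2.card.factorial * 2 ^ s.2.card) : ℝ) * n) atTop atTop :=
      Tendsto.const_mul_atTop (by positivity) tendsto_natCast_atTop_atTop
    exact not_tendsto_nhds_of_tendsto_atTop (tendsto_atTop_mono' _ h2 h3) _ hO
  -- lower bound for `eO`
  have hlow : ((S.filter fun s => s.2.card = r).card : ℝ) ≤ eO := by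
    have h1 : Tendsto (fun n : ℕ => ∑ s ∈ S.filter (fun s => s.2.card = r),
        (((n - ∑ i, s.1 i : ℕ) : ℝ) ^ r) / (n : ℝ) ^ r) atTop
        (𝓝 (∑ s ∈ S.filter (fun s => s.2.card = r), (1 : ℝ))) :=
      tendsto_finset_sum _ fun s _ => tendsto_sub_div_pow _ r
    rw [Finset.sum_const, nsmul_eq_mul, mul_one] at h1
    refine le_of_tendsto_of_tendsto h1 hO ?_
    filter_upwards [eventually_gt_atTop (S.sup fun s => ∑ i, s.1 i)] with n hn
    rw [← Finset.sum_div]
    refine div_le_div_of_nonneg_right ?_ (by positivity)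
    have h2 : ∀ s ∈ S, (∑ i, s.1 i) < n := fun s hs =>
      lt_of_le_of_lt (Finset.le_sup (f := fun s : (Fin N → ℕ) × Finset (Fin N) => ∑ i, s.1 i) hs) hn
    have h3 : ∀ s : (Fin N → ℕ) × Finset (Fin N), ∃ T : Finset (Fin N → ℕ), s ∈ S →
        (∀ γ ∈ T, (∑ i, γ i) < n ∧ γ ∈ piece s) ∧
        (n - ∑ i, s.1 i) ^ s.2.card ≤ s.2.card.factorial * T.card := by
      intro s
      by_cases hs : s ∈ S
      · obtain ⟨T, hT⟩ := le_card s n (h2 s hs)
        exact ⟨T, fun _ => hT⟩
      · exact ⟨∅, fun h => (hs h).elim⟩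
    choose T hT using h3
    have h4 : ((S.filter fun s => s.2.card = r).biUnion T).card ≤ a n := by
      refine ha n _ fun γ hγ => ?_
      rw [Finset.mem_biUnion] at hγ
      obtain ⟨s, hs, hγ⟩ := hγ
      have hs' := (Finset.mem_filter.1 hs).1
      exact ⟨((hT s hs').1 γ hγ).1, (hS1 γ).2 ⟨s, hs', ((hT s hs').1 γ hγ).2⟩⟩
    rw [Finset.card_biUnion] at h4
    · have h5 : ∑ s ∈ S.filter (fun s => s.2.card = r), (n - ∑ i, s.1 i) ^ r ≤
          r.factorial * a n := by
        refine le_trans ?_ (Nat.mul_le_mul_left _ h4)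
        rw [Finset.mul_sum]
        refine Finset.sum_le_sum fun s hs => ?_
        rw [Finset.mem_filter] at hs
        have := (hT s hs.1).2
        rwa [hs.2] at this
      exact_mod_cast h5
    · intro s hs t ht hst
      rw [Function.onFun, Finset.disjoint_left]
      intro γ hγs hγt
      have hs' := (Finset.mem_filter.1 hs).1
      have ht' := (Finset.mem_filter.1 ht).1
      exact hst (hS2 s hs' t ht' γ ((hT s hs').1 γ hγs).2 ((hT t ht').1 γ hγt).2)
  -- upper bound for `eI`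
  have hup : eI ≤ (r.factorial : ℝ) * ((Pᶜ.ncard : ℝ) * ((S.filter fun s => s.2.card = r).card : ℝ)) := by
    have h1 : Tendsto (fun n : ℕ => (r.factorial : ℝ) * ((Pᶜ.ncard : ℝ) *
        ∑ s ∈ S, (n : ℝ) ^ s.2.card / (n : ℝ) ^ r)) atTop
        (𝓝 ((r.factorial : ℝ) * ((Pᶜ.ncard : ℝ) * ∑ s ∈ S, (if s.2.card = r then (1 : ℝ) else 0)))) :=
      (((tendsto_finset_sum _ fun s hs => tendsto_pow_div (hdim s hs)).const_mul _)).const_mul _
    rw [Finset.sum_boole] at h1
    refine le_of_tendsto_of_tendsto hI h1 ?_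
    filter_upwards [eventually_gt_atTop 0] with n hn
    rw [mul_div_assoc]
    refine mul_le_mul_of_nonneg_left ?_ (by positivity)
    rw [← Finset.sum_div, ← mul_div_assoc]
    refine div_le_div_of_nonneg_right ?_ (by positivity)
    have h2 : (Q n)ᶜ ⊆ ⋃ s ∈ S, (piece s ∩ (Q n)ᶜ) := by
      intro β hβ
      obtain ⟨s, hs, hβs⟩ := (hS1 β).1 fun h => hβ (hLQ n h)
      exact Set.mem_biUnion hs ⟨hβs, hβ⟩
    have h3 : ∀ s, (piece s ∩ (Q n)ᶜ).Finite ∧ (piece s ∩ (Q n)ᶜ).ncard ≤ n ^ s.2.card * Pᶜ.ncard :=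
      fun s => card_le s P (Q n) n hn hP (hPQ n)
    have h4 : (Q n)ᶜ.ncard ≤ ∑ s ∈ S, n ^ s.2.card * Pᶜ.ncard := by
      refine (Set.ncard_le_ncard h2 (S.finite_toSet.biUnion fun s _ => (h3 s).1)).trans ?_
      refine (Finset.set_ncard_biUnion_le S _).trans ?_
      exact Finset.sum_le_sum fun s _ => (h3 s).2
    rw [← Finset.sum_mul, mul_comm] at h4
    exact_mod_cast h4
  refine hup.trans ?_
  have h0 : (0 : ℝ) ≤ (r.factorial : ℝ) * (Pᶜ.ncard : ℝ) := by positivity
  calc (r.factorial : ℝ) * ((Pᶜ.ncard : ℝ) * ((S.filter fun s => s.2.card = r).card : ℝ))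
      = ((r.factorial : ℝ) * (Pᶜ.ncard : ℝ)) * ((S.filter fun s => s.2.card = r).card : ℝ) := by ring
    _ ≤ ((r.factorial : ℝ) * (Pᶜ.ncard : ℝ)) * eO := mul_le_mul_of_nonneg_left hlow h0
    _ = _ := by ring

end K539.LechComb
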