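import Groth.Agent.LocAlg.K539.LenField
import Mathlib.RingTheory.MvPowerSeries.Basic
import Mathlib.LinearAlgebra.Dimension.Constructions
import Mathlib.Data.Finsupp.Order
import Mathlib.Data.Finsupp.Weight

/-!
# Monomial ideals in power series rings
-/

set_option autoImplicit false

universe u

open MvPowerSeries Finset

namespace K539.MonoPS

variable {σ : Type*} {k : Type u} [Field k]

/-- The ideal of power series whose coefficients at the elements of a lower set vanish. -/
def monoIdeal (k : Type u) [Field k] (L : Set (σ →₀ ℕ)) (hL : IsLowerSet L) : Ideal (MvPowerSeries σ k) where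
  carrier := {f | ∀ m ∈ L, coeff m f = 0}
  zero_mem' := fun m _ => map_zero _
  add_mem' := fun {f g} hf hg m hm => by rw [map_add, hf m hm, hg m hm, add_zero]
  smul_mem' := fun a f hf m hm => by
    classical
    rw [smul_eq_mul, coeff_mul]
    refine Finset.sum_eq_zero fun p hp => ?_
    rw [mem_antidiagonal] at hp
    rw [hf p.2 (hL (by rw [← hp]; exact le_add_self) hm), mul_zero]

theorem mem_monoIdeal {L : Set (σ →₀ ℕ)} {hL : IsLowerSet L} {f : MvPowerSeries σ k} :
    f ∈ monoIdeal k L hL ↔ ∀ m ∈ L, coeff m f = 0 := Iff.rfl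

theorem monomial_mem {L : Set (σ →₀ ℕ)} {hL : IsLowerSet L} {a : σ →₀ ℕ} (ha : a ∉ L) (c : k) :
    monomial a c ∈ monoIdeal k L hL := by
  classical
  intro m hm
  rw [coeff_monomial, if_neg]
  rintro rfl
  exact ha hm

/-- A monomial ideal with finitely many generators. -/
theorem monoIdeal_eq_span {ι : Type*} [Fintype ι] (G : ι → (σ →₀ ℕ)) (L : Set (σ →₀ ℕ))
    (hL : IsLowerSet L) (h : ∀ m, m ∉ L ↔ ∃ i, G i ≤ m) :
    monoIdeal k L hL = Ideal.span (Set.range fun i => (monomial (G i) (1 : k) : MvPowerSeries σ k)) := by
  classical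
  apply le_antisymm
  · intro f hf
    let as : (σ →₀ ℕ) → Option ι := fun m => if hm : ∃ i, G i ≤ m then some hm.choose else none
    have has : ∀ m i, as m = some i → G i ≤ m := by
      intro m i hmi
      by_cases hm : ∃ i, G i ≤ m
      · simp only [as, dif_pos hm, Option.some.injEq] at hmi
        rw [← hmi]
        exact hm.choose_spec
      · simp only [as, dif_neg hm] at hmi
        exact absurd hmi (by simp)
    let c : ι → MvPowerSeries σ k := fun i n =>
      if as (n + G i) = some i then coeff (n + G i) f else 0
    have hf' : f = ∑ i, monomial (G i) (1 : k) * c i := by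
      ext m
      rw [map_sum]
      have key : ∀ i, coeff m (monomial (G i) (1 : k) * c i) =
          if as m = some i then coeff m f else 0 := by
        intro i
        rw [coeff_monomial_mul]
        split_ifs with h1 h2 h2
        · rw [one_mul]
          change (if as (m - G i + G i) = some i then coeff (m - G i + G i) f else 0) = _
          rw [tsub_add_cancel_of_le h1, if_pos h2]
        · rw [one_mul]
          change (if as (m - G i + G i) = some i then coeff (m - G i + G i) f else 0) = _
          rw [tsub_add_cancel_of_le h1, if_neg h2]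
        · exact absurd (has m i h2) h1
        · rfl
      simp only [key]
      by_cases hm : ∃ i, G i ≤ m
      · have h1 : as m = some hm.choose := by simp only [as, dif_pos hm]
        rw [h1]
        simp
      · have h1 : m ∈ L := by
          by_contra hcon
          exact hm ((h m).1 hcon)
        rw [hf m h1]
        simp
    rw [hf']
    exact sum_mem fun i _ => Ideal.mul_mem_right _ _ (Ideal.subset_span ⟨i, rfl⟩)
  · rw [Ideal.span_le]
    rintro _ ⟨i, rfl⟩
    exact monomial_mem ((h (G i)).2 ⟨i, le_rfl⟩) _

/-- The quotient by the monomial ideal attached to a finite lower set. -/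
noncomputable def quotEquiv (S : Finset (σ →₀ ℕ)) (hL : IsLowerSet (S : Set (σ →₀ ℕ))) :
    (MvPowerSeries σ k ⧸ (monoIdeal k (S : Set (σ →₀ ℕ)) hL).restrictScalars k) ≃ₗ[k] (S → k) := by
  classical
  let φ : MvPowerSeries σ k →ₗ[k] (S → k) := LinearMap.pi fun s => coeff (s : σ →₀ ℕ)
  have hφ : Function.Surjective φ := by
    intro c
    refine ⟨fun m => if h : m ∈ S then c ⟨m, h⟩ else 0, ?_⟩
    funext s
    change (if h : (s : σ →₀ ℕ) ∈ S then c ⟨s, h⟩ else 0) = c s
    rw [dif_pos s.2]
  have hker : (monoIdeal k (S : Set (σ →₀ ℕ)) hL).restrictScalars k = LinearMap.ker φ := by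
    ext f
    rw [LinearMap.mem_ker, funext_iff]
    constructor
    · intro h s
      exact h s s.2
    · intro h s hs
      exact h ⟨s, hs⟩
  exact (Submodule.quotEquivOfEq _ _ hker).trans (φ.quotKerEquivOfSurjective hφ)

theorem pow_le (n : ℕ) (f : MvPowerSeries σ k)
    (hf : f ∈ RingHom.ker (constantCoeff (σ := σ) (R := k)) ^ n) (m : σ →₀ ℕ) (hm : m.degree < n) :
    coeff m f = 0 := by
  classical
  induction n generalizing f m with
  | zero => omega
  | succ n ih =>
    rw [pow_succ'] at hf
    refine Submodule.mul_induction_on hf ?_ ?_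
    · intro a ha b hb
      rw [coeff_mul]
      refine Finset.sum_eq_zero fun p hp => ?_
      rw [mem_antidiagonal] at hp
      by_cases h0 : p.1 = 0
      · rw [RingHom.mem_ker] at ha
        rw [h0, coeff_zero_eq_constantCoeff_apply, ha, zero_mul]
      · have h1 : p.2.degree < n := by
          have h2 : p.1.degree + p.2.degree = m.degree := by rw [← hp, map_add]
          have h3 : p.1.degree ≠ 0 := fun h => h0 ((Finsupp.degree_eq_zero_iff p.1).1 h)
          omega
        rw [ih b hb p.2 h1, mul_zero]
    · intro a b ha hb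
      rw [map_add, ha, hb, add_zero]

/-- The colength of a monomial ideal. -/
theorem length_quot (S : Finset (σ →₀ ℕ)) (hL : IsLowerSet (S : Set (σ →₀ ℕ))) :
    Module.length (MvPowerSeries σ k) (MvPowerSeries σ k ⧸ monoIdeal k (S : Set (σ →₀ ℕ)) hL) =
      (S.card : ℕ∞) := by
  have h1 := LenField.length_eq (k := k) (A := MvPowerSeries σ k)
    (RingHom.ker (constantCoeff (σ := σ) (R := k)))
    (fun a => ⟨constantCoeff a, by
      rw [RingHom.mem_ker, map_sub]
      change constantCoeff a - constantCoeff (C (constantCoeff a)) = 0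
      rw [constantCoeff_C, sub_self]⟩) (S.sup Finsupp.degree + 1)
    (MvPowerSeries σ k ⧸ monoIdeal k (S : Set (σ →₀ ℕ)) hL) (by
      rw [eq_bot_iff, Submodule.smul_le]
      intro r hr x _
      obtain ⟨x, rfl⟩ := Submodule.Quotient.mk_surjective _ x
      rw [Submodule.mem_bot, ← Submodule.Quotient.mk_smul, Submodule.Quotient.mk_eq_zero,
        smul_eq_mul]
      refine Ideal.mul_mem_right _ _ ?_
      intro m hm
      refine pow_le _ r hr m ?_
      have := Finset.le_sup (f := Finsupp.degree) hm
      omega)
  rw [← h1]
  have e := quotEquiv (k := k) S hL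
  have h2 : Module.length k (MvPowerSeries σ k ⧸ monoIdeal k (S : Set (σ →₀ ℕ)) hL) =
      Module.length k (S → k) := LinearEquiv.length_eq e
  rw [h2, Module.length_pi_of_fintype]
  simp

end K539.MonoPS
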